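import Mathlib
import Cfsg.Agent.Lib.ThreeTrans.SymPres
import Cfsg.Agent.Lib.Schur.Cover

/-! The double cover of the alternating group, constructed in a Clifford algebra. -/

set_option autoImplicit false
set_option linter.unusedSectionVars false

namespace CfsgLib.AltCover

open Equiv Equiv.Perm CfsgLib.Schur Subgroup
open scoped commutatorElement

variable {α : Type} [Fintype α] [DecidableEq α]

/-- half the sum of squares -/
noncomputable def Qf (α : Type) [Fintype α] : QuadraticForm ℚ (α → ℚ) :=
  QuadraticMap.weightedSumSquares ℚ (fun _ : α => (1 / 2 : ℚ))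

theorem Qf_apply (x : α → ℚ) : Qf α x = ∑ i, 1 / 2 * (x i * x i) := by
  simp [Qf]

theorem polar_Qf (x y : α → ℚ) : QuadraticMap.polar (Qf α) x y = ∑ i, x i * y i := by
  simp only [QuadraticMap.polar, Qf_apply, ← Finset.sum_sub_distrib, Pi.add_apply]
  exact Finset.sum_congr rfl fun i _ => by ring

/-- the root `e_i - e_j` -/
def rt (i j : α) : α → ℚ := Pi.single i 1 - Pi.single j 1

theorem polar_rt (i j : α) (y : α → ℚ) : QuadraticMap.polar (Qf α) (rt i j) y = y i - y j := by
  simp [polar_Qf, rt, sub_mul, Finset.sum_sub_distrib, Pi.single_apply, -mul_ite]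

theorem Qf_rt {i j : α} (h : i ≠ j) : Qf α (rt i j) = 1 := by
  have := polar_rt i j (rt i j)
  rw [QuadraticMap.polar_self] at this
  simp only [rt, Pi.sub_apply, Pi.single_eq_same, Pi.single_eq_of_ne h, Pi.single_eq_of_ne h.symm,
    nsmul_eq_mul] at this
  simp only [rt]
  push_cast at this
  linarith

theorem rt_refl (i j k l : α) :
    (rt k l i - rt k l j) • rt i j - rt k l = -rt (swap i j k) (swap i j l) := by
  have h1 : rt (swap i j k) (swap i j l) = rt k l ∘ swap i j := by
    ext x
    simp only [rt, Pi.sub_apply, Pi.single_apply, Function.comp_apply, swap_apply_eq_iff]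
  rw [h1]
  generalize rt k l = y
  ext x
  simp only [rt, Pi.sub_apply, Pi.single_apply, Pi.smul_apply, Pi.neg_apply, Function.comp_apply,
    swap_apply_def, smul_eq_mul]
  split_ifs <;> simp_all

/-- the units of the Clifford algebra -/
abbrev CU (α : Type) [Fintype α] : Type := (CliffordAlgebra (Qf α))ˣ

theorem iota_sq {i j : α} (h : i ≠ j) :
    CliffordAlgebra.ι (Qf α) (rt i j) * CliffordAlgebra.ι (Qf α) (rt i j) = 1 := by
  rw [CliffordAlgebra.ι_sq_scalar, Qf_rt h, map_one]

/-- the lift of a transposition -/
noncomputable def U (i j : α) : CU α :=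
  if h : i = j then 1 else ⟨_, _, iota_sq h, iota_sq h⟩

theorem coe_U {i j : α} (h : i ≠ j) :
    (U i j : CliffordAlgebra (Qf α)) = CliffordAlgebra.ι (Qf α) (rt i j) := by
  rw [U, dif_neg h]

theorem U_self (i : α) : U i i = 1 := dif_pos rfl

theorem U_mul_self (i j : α) : U i j * U i j = 1 := by
  by_cases h : i = j
  · rw [h, U_self, one_mul]
  · exact Units.ext (by rw [Units.val_mul, coe_U h, iota_sq h]; rfl)

theorem U_inv (i j : α) : (U i j)⁻¹ = U i j := inv_eq_of_mul_eq_one_right (U_mul_self i j)

theorem U_symm {i j : α} (h : i ≠ j) : U j i = -U i j :=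
  Units.ext (by
    rw [Units.val_neg, coe_U h, coe_U h.symm, ← map_neg, rt, rt, neg_sub])

theorem U_conj {i j k l : α} (h : i ≠ j) (h' : k ≠ l) :
    U i j * U k l * U i j = -U (swap i j k) (swap i j l) :=
  Units.ext (by
    rw [Units.val_neg, Units.val_mul, Units.val_mul, coe_U h, coe_U h',
      coe_U ((swap i j).injective.ne h'), CliffordAlgebra.ι_mul_ι_mul_ι, polar_rt, Qf_rt h,
      one_smul, rt_refl, map_neg])

theorem U_anti {i j k l : α} (h : i ≠ j) (h' : k ≠ l) (h1 : k ≠ i) (h2 : k ≠ j) (h3 : l ≠ i)
    (h4 : l ≠ j) : U i j * U k l = -(U k l * U i j) := by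
  have := U_conj h h'
  rw [swap_apply_of_ne_of_ne h1 h2, swap_apply_of_ne_of_ne h3 h4] at this
  rw [← neg_mul, ← this, mul_assoc, U_mul_self, mul_one]

theorem neg_one_ne : (-1 : CU α) ≠ 1 := by
  intro h
  have h1 : (-1 : CliffordAlgebra (Qf α)) = 1 := congrArg Units.val h
  haveI : CharZero (CliffordAlgebra (Qf α)) := algebraRat.charZero _
  exact (by norm_num : (-1 : CliffordAlgebra (Qf α)) ≠ 1) h1

/-- the subgroup `{1, -1}` -/
noncomputable abbrev NN (α : Type) [Fintype α] : Subgroup (CU α) := zpowers (-1)

theorem NN_le_center : NN α ≤ center (CU α) :=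
  zpowers_le.2 (mem_center_iff.2 fun g => by simp)

instance NN_normal : (NN α).Normal := ⟨fun a ha g => by
  rw [mem_center_iff.1 (NN_le_center ha) g, mul_inv_cancel_right]; exact ha⟩

theorem mk_neg (x : CU α) : ((-x : CU α) : CU α ⧸ NN α) = x := by
  rw [QuotientGroup.eq]
  simp

theorem mem_NN {x : CU α} : x ∈ NN α ↔ x = 1 ∨ x = -1 := by
  constructor
  · rintro ⟨k, rfl⟩
    rcases Int.even_or_odd k with h | h
    · exact Or.inl (h.neg_one_zpow)
    · exact Or.inr (h.neg_one_zpow)
  · rintro (rfl | rfl)
    · exact one_mem _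
    · exact mem_zpowers _

theorem exists_phi : ∃ φ : Perm α →* CU α ⧸ NN α, ∀ i j, φ (swap i j) = U i j := by
  apply CfsgLib.ThreeTrans.exists_hom_of_swaps (fun i j => ((U i j : CU α) : CU α ⧸ NN α))
  · intro i; rw [U_self]; rfl
  · intro i j
    by_cases h : i = j
    · rw [h]
    · rw [U_symm h, mk_neg]
  · intro i j k l
    rw [← QuotientGroup.mk_mul, ← QuotientGroup.mk_mul]
    by_cases h : i = j
    · subst h; simp [U_self]
    by_cases h' : k = l
    · subst h'; rw [U_self, U_self, mul_one, U_mul_self]
    · rw [U_conj h h', mk_neg]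
  · intro i j
    rw [← QuotientGroup.mk_mul, U_mul_self]; rfl

/-- the projective spin representation -/
noncomputable def phi (α : Type) [Fintype α] [DecidableEq α] : Perm α →* CU α ⧸ NN α :=
  exists_phi.choose

theorem phi_swap (i j : α) : phi α (swap i j) = U i j := exists_phi.choose_spec i j

/-- the double cover of the alternating group -/
noncomputable abbrev Spin (α : Type) [Fintype α] [DecidableEq α] : Type :=
  pullback ((phi α).comp (alternatingGroup α).subtype) (QuotientGroup.mk' (NN α))

/-- the covering map -/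
noncomputable def spinMap (α : Type) [Fintype α] [DecidableEq α] : Spin α →* alternatingGroup α :=
  pbFst _ _

theorem spin_central : IsCentralExt (spinMap α) :=
  isCentralExt_pbFst _ ⟨QuotientGroup.mk'_surjective _, by
    rw [QuotientGroup.ker_mk']; exact NN_le_center⟩

/-- the central involution -/
noncomputable def spinZ (α : Type) [Fintype α] [DecidableEq α] : Spin α :=
  ⟨(1, -1), by rw [mem_pullback, map_one]; exact (mk_neg 1).symm⟩

theorem orderOf_spinZ : orderOf (spinZ α) = 2 :=
  orderOf_eq_prime (Subtype.ext (Prod.ext (one_pow 2) (neg_one_sq)))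
    fun h => neg_one_ne (congrArg (fun x : Spin α => x.1.2) h)

theorem spin_ker : (spinMap α).ker = zpowers (spinZ α) := by
  apply le_antisymm
  · intro x hx
    have h1 : x.1.1 = 1 := hx
    have h2 : (QuotientGroup.mk' (NN α)) x.1.2 = 1 := by
      rw [← mem_pullback.1 x.2, h1, map_one]
    rcases mem_NN.1 ((QuotientGroup.eq_one_iff _).1 h2) with h | h
    · rw [show x = 1 from Subtype.ext (Prod.ext h1 h)]; exact one_mem _
    · rw [show x = spinZ α from Subtype.ext (Prod.ext h1 h)]; exact mem_zpowers _
  · exact zpowers_le.2 rfl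

theorem card_spin_ker : Nat.card (spinMap α).ker = 2 := by
  rw [spin_ker, Nat.card_zpowers, orderOf_spinZ]

instance spin_finite : Finite (Spin α) :=
  haveI : Finite (spinMap α).ker := Nat.finite_of_card_ne_zero (by rw [card_spin_ker]; norm_num)
  finite_of_finite_ker (spinMap α)

/-- the lift of a product of two transpositions -/
noncomputable def el {i j k l : α} (h : i ≠ j) (h' : k ≠ l) : Spin α :=
  ⟨(⟨swap i j * swap k l, by
      rw [mem_alternatingGroup, map_mul, sign_swap h, sign_swap h']; simp⟩, U i j * U k l), by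
    rw [mem_pullback]
    show phi α (swap i j * swap k l) = _
    rw [map_mul, phi_swap, phi_swap]; rfl⟩

theorem spinMap_el {i j k l : α} (h : i ≠ j) (h' : k ≠ l) :
    (spinMap α (el h h') : Perm α) = swap i j * swap k l := rfl

theorem eq_of_snd {x y : Spin α} (h1 : spinMap α x = spinMap α y) (h : x.1.2 = y.1.2) : x = y :=
  Subtype.ext (Prod.ext h1 h)

theorem spinZ_mem_commutator {a b c d : α} (hab : a ≠ b) (hac : a ≠ c) (had : a ≠ d) (hbc : b ≠ c)
    (hbd : b ≠ d) (hcd : c ≠ d) : spinZ α ∈ commutator (Spin α) := by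
  have : spinZ α = ⁅el hab hcd, el hac hbd⁆ := by
    rw [commutatorElement_def, eq_mul_inv_iff_mul_eq, eq_mul_inv_iff_mul_eq]
    apply eq_of_snd
    · apply Subtype.ext
      show 1 * (swap a c * swap b d) * (swap a b * swap c d) =
        (swap a b * swap c d) * (swap a c * swap b d)
      have e1 := swap_apply_apply (swap a b * swap c d) a c
      have e2 := swap_apply_apply (swap a b * swap c d) b d
      have e3 := swap_apply_apply (swap b d) a c
      rw [Perm.mul_apply, Perm.mul_apply, swap_apply_of_ne_of_ne hac had, swap_apply_left,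
        swap_apply_left, swap_apply_of_ne_of_ne had.symm hbd.symm] at e1
      rw [Perm.mul_apply, Perm.mul_apply, swap_apply_of_ne_of_ne hbc hbd, swap_apply_right,
        swap_apply_right, swap_apply_of_ne_of_ne hac.symm hbc.symm] at e2
      rw [swap_apply_of_ne_of_ne hab had, swap_apply_of_ne_of_ne hbc.symm hcd] at e3
      rw [one_mul, ← mul_assoc (swap a b * swap c d),
        mul_inv_eq_iff_eq_mul.1 e1.symm, mul_assoc (swap b d) (swap a b * swap c d),
        mul_inv_eq_iff_eq_mul.1 e2.symm, ← mul_assoc (swap b d), mul_inv_eq_iff_eq_mul.1 e3.symm]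
    · show -1 * (U a c * U b d) * (U a b * U c d) = (U a b * U c d) * (U a c * U b d)
      have e1 := U_conj hcd hac
      have e2 := U_conj hcd hbd
      have e3 := U_conj hab had
      have e4 := U_conj hab hbc
      rw [swap_apply_of_ne_of_ne hac had, swap_apply_left] at e1
      rw [swap_apply_of_ne_of_ne hbc hbd, swap_apply_right] at e2
      rw [swap_apply_of_ne_of_ne had.symm hbd.symm, swap_apply_left] at e3
      rw [swap_apply_of_ne_of_ne hac.symm hbc.symm, swap_apply_right] at e4
      have f : ∀ {x y w : CU α}, x * x = 1 → x * y * x = -w → x * y = -(w * x) := by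
        intro x y w h1 h2
        rw [← neg_mul, ← h2, mul_assoc, h1, mul_one]
      have f1 := f (U_mul_self _ _) e1
      have f2 := f (U_mul_self _ _) e2
      have f3 := f (U_mul_self _ _) e3
      have f4 := f (U_mul_self _ _) e4
      have f5 := U_anti hbd hac hab had hbc.symm hcd
      symm
      calc U a b * U c d * (U a c * U b d) = U a b * (U c d * U a c) * U b d := by
            simp only [mul_assoc]
        _ = -(U a b * U a d * (U c d * U b d)) := by rw [f1]; simp only [mul_assoc, mul_neg, neg_mul]
        _ = -(U b d * (U a b * U b c) * U c d) := by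
            rw [f2, f3]; simp only [mul_assoc, mul_neg, neg_mul, neg_neg]
        _ = (U b d * U a c) * (U a b * U c d) := by
            rw [f4]; simp only [mul_assoc, mul_neg, neg_mul, neg_neg]
        _ = _ := by rw [f5, neg_one_mul]
  rw [this]
  exact commutator_mem_commutator (mem_top _) (mem_top _)

theorem spin_stem (h : 4 ≤ Fintype.card α) : Cfsg.IsStemExtension (spinMap α) := by
  obtain ⟨f⟩ : Nonempty (Fin 4 ↪ α) := Function.Embedding.nonempty_of_card_le (by simpa using h)
  refine spin_central.stem ?_
  rw [spin_ker, zpowers_le]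
  exact spinZ_mem_commutator (a := f 0) (b := f 1) (c := f 2) (d := f 3)
    (f.injective.ne (by decide)) (f.injective.ne (by decide)) (f.injective.ne (by decide))
    (f.injective.ne (by decide)) (f.injective.ne (by decide)) (f.injective.ne (by decide))

end CfsgLib.AltCover
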